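import Groth.Agent.TorsLiftLib.Basic
import Groth.Agent.SemiAbLib.CompExp
import Groth.Agent.GaModelLib.GaSpec
import Groth.Agent.DSImgLib.Basic
import Groth.Agent.S4059
import Groth.Agent.GrpHomLib.Artin
import Groth.Agent.AntiAffLib.CommCat
import Groth.Agent.TorusFieldLib.Scheme
import Mathlib.RingTheory.RootsOfUnity.Basic
import Mathlib.RingTheory.Henselian
import Mathlib.RingTheory.AdicCompletion.Noetherian

/-!
Component groups of smooth models of the multiplicative group with unipotent identity component.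
-/

set_option autoImplicit false
set_option linter.style.haveILetI false
set_option backward.isDefEq.respectTransparency false
set_option backward.isDefEq.respectTransparency.types false
set_option maxHeartbeats 1000000

noncomputable section

universe u

open CategoryTheory CategoryTheory.Limits MonoidalCategory CartesianMonoidalCategory AlgebraicGeometry
open scoped MonObj
open PowEtCentralLib (adjEquiv)
open MultSubLib (chars)
open Groth.Agent

attribute [-instance] CategoryTheory.Hom.commGroup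

namespace GmComp

/-- Torsion of a group with an injective homomorphism to a field is cyclic. -/
theorem exists_gen {H : Type*} [Group H] {K : Type u} [Field K] (F : H →* K) (hF : Function.Injective F) {n : ℕ}
    (hn : 0 < n) : ∃ σ₀ : H, σ₀ ^ n = 1 ∧ ∀ σ : H, σ ^ n = 1 → ∃ m : ℕ, σ = σ₀ ^ m := by
  haveI : NeZero n := ⟨hn.ne'⟩
  let S : Subgroup (rootsOfUnity n K) := F.toHomUnits.range.comap (rootsOfUnity n K).subtype
  haveI : IsCyclic S := Subgroup.isCyclic _
  obtain ⟨g, hg⟩ := IsCyclic.exists_monoid_generator (α := S)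
  obtain ⟨σ₀, hσ₀⟩ : ∃ σ₀, F.toHomUnits σ₀ = ((g : rootsOfUnity n K) : Kˣ) := g.2
  have hinj : Function.Injective F.toHomUnits := fun a b h => hF (congrArg Units.val h)
  refine ⟨σ₀, hinj ?_, fun σ hσ => ?_⟩
  · rw [map_pow, hσ₀, map_one]
    exact (mem_rootsOfUnity n _).1 (g : rootsOfUnity n K).2
  · have hu : F.toHomUnits σ ∈ rootsOfUnity n K := by rw [mem_rootsOfUnity, ← map_pow, hσ, map_one]
    obtain ⟨m, hm⟩ := Submonoid.mem_powers_iff _ _ |>.1 (hg ⟨⟨_, hu⟩, ⟨σ, rfl⟩⟩)
    refine ⟨m, hinj ?_⟩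
    rw [map_pow, hσ₀]
    have h := congrArg (fun z : S => ((z : rootsOfUnity n K) : Kˣ)) hm
    simpa using h.symm

variable {k : Type u} [Field k]

theorem connectedSpace_Ga : ConnectedSpace ↥(Red.Ga (Spec (CommRingCat.of k))).left := by
  haveI : IsDomain (SymmetricAlgebra k k) :=
    MulEquiv.isDomain (MvPolynomial Unit k)
      (SymmetricAlgebra.equivMvPolynomial (Module.Basis.singleton Unit k)).toMulEquiv
  haveI : ConnectedSpace ↥(CoactBr.sp k (SymmetricAlgebra k k)).left :=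
    inferInstanceAs (ConnectedSpace (PrimeSpectrum (SymmetricAlgebra k k)))
  haveI : IsIso (GaModel.toGa k).left := (Over.forget _).map_isIso (GaModel.toGa k)
  have h : Function.Surjective (GaModel.toGa k).left := (GaModel.toGa k).left.surjective
  exact h.connectedSpace (GaModel.toGa k).left.continuous

theorem gaFn_pow {S : Scheme.{u}} {T : Over S} (b : T ⟶ Red.Ga S) (n : ℕ) :
    Red.gaFn (b ^ n) = n • Red.gaFn b := by
  induction n with
  | zero => rw [pow_zero, zero_smul]; exact GaPts.gaFn_one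
  | succ n ih => rw [pow_succ, GaPts.gaFn_mul, ih, succ_nsmul]

theorem exists_root {n : ℕ} (hn : (n : k) ≠ 0) (a : 𝟙_ (Over (Spec (CommRingCat.of k))) ⟶ Red.Ga _) :
    ∃ b : 𝟙_ (Over (Spec (CommRingCat.of k))) ⟶ Red.Ga _, b ^ n = a := by
  let e : k →+* Γ((𝟙_ (Over (Spec (CommRingCat.of k)))).left, ⊤) := (Scheme.ΓSpecIso (CommRingCat.of k)).inv.hom
  refine ⟨GaPts.ptOf (e ((n : k)⁻¹) * Red.gaFn a), GaPts.gaFn_injective ?_⟩
  show Red.gaFn _ = Red.gaFn _
  rw [gaFn_pow, GaPts.gaFn_ptOf, nsmul_eq_mul, ← _root_.mul_assoc, ← map_natCast e, ← map_mul, mul_inv_cancel₀ hn,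
    map_one, _root_.one_mul]

variable {R : Type u} [CommRing R] [IsDomain R] [IsLocalRing R] [HenselianLocalRing R]
  {K : Type u} [Field K] [Algebra R K] [IsFractionRing R K]

local notation "sq" => Spec.map (CommRingCat.ofHom (IsLocalRing.residue R))
local notation "ξK" => Spec.map (CommRingCat.ofHom (algebraMap R K))

theorem schDom : IsSchemeTheoreticallyDominant ξK := by
  haveI : IsDominant ξK := ⟨by
    show DenseRange (PrimeSpectrum.comap (algebraMap R K))
    rw [PrimeSpectrum.denseRange_comap_iff_ker_le_nilRadical,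
      (RingHom.injective_iff_ker_eq_bot _).1 (IsFractionRing.injective R K)]
    exact bot_le⟩
  exact IsSchemeTheoreticallyDominant.of_isDominant ξK

/-- The generic fibre embeds the points. -/
theorem exists_hom_to_field (G : Over (Spec (CommRingCat.of R))) [GrpObj G] [IsSeparated G.hom]
    (e : Red.bc ξK G ≅ Red.Gm (Spec (CommRingCat.of K))) [IsMonHom e.hom] :
    ∃ F : (Over.mk (𝟙 (Spec (CommRingCat.of R))) ⟶ G) →* K, Function.Injective F := by
  let Y : Over (Spec (CommRingCat.of K)) := Over.mk (𝟙 _)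
  let h : (Over.map ξK).obj Y ⟶ Over.mk (𝟙 (Spec (CommRingCat.of R))) :=
    Over.homMk ξK (by show ξK ≫ 𝟙 _ = 𝟙 _ ≫ ξK; simp)
  let pts : (Over.mk (𝟙 (Spec (CommRingCat.of R))) ⟶ G) → (Y ⟶ Red.Gm (Spec (CommRingCat.of K))) :=
    fun σ => adjEquiv (G := G) ξK Y (h ≫ σ) ≫ e.hom
  have hmul : ∀ σ τ, pts (σ * τ) = pts σ * pts τ := fun σ τ => by
    show adjEquiv (G := G) ξK Y (h ≫ (σ * τ)) ≫ e.hom = _
    rw [MonObj.comp_mul, map_mul, MonObj.mul_comp]
  have hone : pts 1 = 1 := by
    show adjEquiv (G := G) ξK Y (h ≫ 1) ≫ e.hom = _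
    rw [MonObj.comp_one, map_one, MonObj.one_comp]
  have hinj : Function.Injective pts := fun σ τ hστ => by
    have h1 : h ≫ σ = h ≫ τ := (adjEquiv (G := G) ξK Y).injective ((cancel_mono e.hom).1 hστ)
    haveI := schDom (R := R) (K := K)
    refine Over.OverMorphism.ext (ChowLib.hom_ext_of_schDom ξK G.hom ?_ ?_)
    · rw [Over.w, Over.w]
    · exact congrArg CommaMorphism.left h1
  let val : (Y ⟶ Red.Gm (Spec (CommRingCat.of K))) → K := fun t =>
    (Scheme.ΓSpecIso (CommRingCat.of K)).hom (chars t (Multiplicative.ofAdd (1 : ℤ)))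
  have hval : Function.Injective val := fun t t' ht => by
    refine MultSubLib.chars_injective (MonoidHom.ext_mint ?_)
    exact (ConcreteCategory.bijective_of_isIso (Scheme.ΓSpecIso (CommRingCat.of K)).hom).1 ht
  refine ⟨⟨⟨fun σ => val (pts σ), ?_⟩, fun σ τ => ?_⟩, hval.comp hinj⟩
  · show val (pts 1) = 1
    rw [hone]
    show (Scheme.ΓSpecIso (CommRingCat.of K)).hom (chars (1 : Y ⟶ Red.Gm _) _) = 1
    have h1 := MultSubLib.chars_mul (1 : Y ⟶ Red.Gm (Spec (CommRingCat.of K))) 1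
    rw [_root_.one_mul] at h1
    have h2 := congrArg (fun c => (Scheme.ΓSpecIso (CommRingCat.of K)).hom (c (Multiplicative.ofAdd (1 : ℤ)))) h1
    simp only [MonoidHom.mul_apply, map_mul] at h2
    have hu : IsUnit ((Scheme.ΓSpecIso (CommRingCat.of K)).hom
        (chars (1 : Y ⟶ Red.Gm (Spec (CommRingCat.of K))) (Multiplicative.ofAdd (1 : ℤ)))) :=
      ((Group.isUnit _).map (chars (1 : Y ⟶ Red.Gm (Spec (CommRingCat.of K))))).map
        (Scheme.ΓSpecIso (CommRingCat.of K)).hom.hom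
    exact hu.mul_left_cancel (h2.symm.trans (_root_.mul_one _).symm)
  · show val (pts (σ * τ)) = val (pts σ) * val (pts τ)
    rw [hmul]
    simp only [val, MultSubLib.chars_mul, MonoidHom.mul_apply, map_mul]

theorem isCommMonObj_model (G : Over (Spec (CommRingCat.of R))) [GrpObj G] [Smooth G.hom] [IsSeparated G.hom]
    (e : Red.bc ξK G ≅ Red.Gm (Spec (CommRingCat.of K))) [IsMonHom e.hom] : IsCommMonObj G := by
  haveI := schDom (R := R) (K := K)
  haveI : Flat (G ⊗ G).hom := by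
    have h : Flat ((fst G G).left ≫ G.hom) := by
      haveI : Flat (fst G G).left := inferInstanceAs (Flat (Limits.pullback.fst G.hom G.hom))
      infer_instance
    rwa [Over.w] at h
  haveI : Mono e.hom := inferInstance
  haveI : IsCommMonObj (Red.bc ξK G) := AntiAffLib.CommCat.isComm_of_mono e.hom
  exact Groth.Agent.S4059.isCommMonObj_of_generic G ξK (h := ‹IsCommMonObj (Red.bc ξK G)›)

/-- Torsion points of order invertible in the residue field come from a cyclic group. -/
theorem exists_generator (G : Over (Spec (CommRingCat.of R))) [GrpObj G] [Smooth G.hom] [IsSeparated G.hom]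
    (e : Red.bc ξK G ≅ Red.Gm (Spec (CommRingCat.of K))) [IsMonHom e.hom] {n : ℕ} (hn0 : 0 < n) (hn : IsUnit (n : R)) :
    ∃ x₀ : 𝟙_ (Over (Spec (CommRingCat.of (IsLocalRing.ResidueField R)))) ⟶ Red.bc sq G,
      ∀ x : 𝟙_ (Over (Spec (CommRingCat.of (IsLocalRing.ResidueField R)))) ⟶ Red.bc sq G,
        x ^ n = 1 → ∃ m : ℕ, x = x₀ ^ m := by
  haveI := isCommMonObj_model G e
  obtain ⟨F, hF⟩ := exists_hom_to_field G e
  obtain ⟨σ₀, -, hgen⟩ := exists_gen F hF hn0
  let Y : Over (Spec (CommRingCat.of (IsLocalRing.ResidueField R))) := Over.mk (𝟙 _)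
  let h : (Over.map sq).obj Y ⟶ Over.mk (𝟙 (Spec (CommRingCat.of R))) :=
    Over.homMk sq (by show sq ≫ 𝟙 _ = 𝟙 _ ≫ sq; simp)
  let red : (Over.mk (𝟙 (Spec (CommRingCat.of R))) ⟶ G) → (Y ⟶ Red.bc sq G) :=
    fun σ => adjEquiv (G := G) sq Y (h ≫ σ)
  have hpow : ∀ σ (m : ℕ), red (σ ^ m) = red σ ^ m := fun σ m => by
    show adjEquiv (G := G) sq Y (h ≫ σ ^ m) = _
    rw [MonObj.comp_pow, map_pow]
  refine ⟨red σ₀, fun x hx => ?_⟩
  let ι₀ : Over.mk sq ⟶ (Over.map sq).obj Y := Over.homMk (𝟙 _) (by show 𝟙 _ ≫ 𝟙 _ ≫ sq = sq; simp)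
  let y : (Over.map sq).obj Y ⟶ G := (adjEquiv (G := G) sq Y).symm x
  have hy : y ^ n = 1 := by
    show ((adjEquiv (G := G) sq Y).symm x) ^ n = 1
    rw [← map_pow]
    exact (congrArg (adjEquiv (G := G) sq Y).symm hx).trans (map_one _)
  obtain ⟨σ, ⟨hσ1, hσ2⟩, -⟩ := TorsLiftLib.existsUnique_lift G n hn (ι₀ ≫ y)
    (by rw [← MonObj.comp_pow, hy, MonObj.comp_one])
  obtain ⟨m, hm⟩ := hgen σ hσ1
  refine ⟨m, ?_⟩
  have hx' : x = red σ := by
    apply (adjEquiv (G := G) sq Y).symm.injective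
    refine Eq.trans ?_ ((adjEquiv (G := G) sq Y).symm_apply_apply (h ≫ σ)).symm
    show y = h ≫ σ
    refine Over.OverMorphism.ext ?_
    have h2 := congrArg CommaMorphism.left hσ2
    simp only [ι₀, Over.comp_left, Over.homMk_left, Category.id_comp] at h2
    exact h2.symm
  rw [hx', hm]
  exact hpow σ₀ m

/-- Points differing by the image of the additive group lie in one component. -/
theorem mem_component {H : Over (Spec (CommRingCat.of k))} [GrpObj H] (j : Red.Ga (Spec (CommRingCat.of k)) ⟶ H)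
    [IsMonHom j] (z : 𝟙_ (Over (Spec (CommRingCat.of k))) ⟶ H)
    (b : 𝟙_ (Over (Spec (CommRingCat.of k))) ⟶ Red.Ga _) :
    (z * (b ≫ j)).left (IsLocalRing.closedPoint k : PrimeSpectrum k) ∈
      connectedComponent (z.left (IsLocalRing.closedPoint k : PrimeSpectrum k)) := by
  haveI := connectedSpace_Ga (k := k)
  let T : Red.Ga (Spec (CommRingCat.of k)) ⟶ H := (toUnit _ ≫ z) * j
  have h1 : b ≫ T = z * (b ≫ j) := by
    show b ≫ ((toUnit _ ≫ z) * j) = _
    rw [MonObj.comp_mul, ← Category.assoc, toUnit_unique (b ≫ toUnit _) (𝟙 _), Category.id_comp]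
  have h0 : (1 : 𝟙_ (Over (Spec (CommRingCat.of k))) ⟶ Red.Ga _) ≫ T = z := by
    show (1 : 𝟙_ (Over (Spec (CommRingCat.of k))) ⟶ Red.Ga _) ≫ ((toUnit _ ≫ z) * j) = _
    rw [MonObj.comp_mul, MonObj.one_comp j, _root_.mul_one, ← Category.assoc, toUnit_unique (_ ≫ toUnit _) (𝟙 _),
      Category.id_comp]
  have hc : _root_.IsPreconnected (Set.range T.left) := (isConnected_range T.left.continuous).isPreconnected
  refine hc.subset_connectedComponent
    ⟨(1 : 𝟙_ (Over (Spec (CommRingCat.of k))) ⟶ Red.Ga _).left (IsLocalRing.closedPoint k : PrimeSpectrum k), ?_⟩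
    ⟨b.left (IsLocalRing.closedPoint k : PrimeSpectrum k), ?_⟩
  · exact congrArg (fun t : 𝟙_ (Over (Spec (CommRingCat.of k))) ⟶ H => t.left (IsLocalRing.closedPoint k : PrimeSpectrum k)) h0
  · exact congrArg (fun t : 𝟙_ (Over (Spec (CommRingCat.of k))) ⟶ H => t.left (IsLocalRing.closedPoint k : PrimeSpectrum k)) h1

theorem exists_exponent (G : Over (Spec (CommRingCat.of R))) [GrpObj G] [Smooth G.hom] [IsAffineHom G.hom]
    (e : Red.bc ξK G ≅ Red.Gm (Spec (CommRingCat.of K))) [IsMonHom e.hom]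
    (j₀ : Red.Ga (Spec (CommRingCat.of (IsLocalRing.ResidueField R))) ⟶ Red.bc sq G) [IsMonHom j₀]
    [IsOpenImmersion j₀.left] :
    ∃ N : ℕ, N ≠ 0 ∧ ∀ x : 𝟙_ (Over (Spec (CommRingCat.of (IsLocalRing.ResidueField R)))) ⟶ Red.bc sq G,
      ∃ a, x ^ N = a ≫ j₀ := by
  haveI := isCommMonObj_model G e
  haveI : IsCommMonObj (Red.bc sq G) := Functor.isCommMonObj_obj (F := Over.pullback sq)
  haveI : LocallyOfFiniteType (Red.bc sq G).hom := inferInstanceAs (LocallyOfFiniteType (pullback.snd G.hom sq))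
  haveI : QuasiCompact (Red.bc sq G).hom := inferInstanceAs (QuasiCompact (pullback.snd G.hom sq))
  haveI : IsAffineHom (Red.bc sq G).hom := inferInstanceAs (IsAffineHom (pullback.snd G.hom sq))
  haveI : IsNoetherian (Red.bc sq G).left := by
    haveI : IsLocallyNoetherian (Red.bc sq G).left := LocallyOfFiniteType.isLocallyNoetherian (Red.bc sq G).hom
    haveI : CompactSpace (Red.bc sq G).left := QuasiCompact.compactSpace_of_compactSpace (Red.bc sq G).hom
    exact {}
  haveI : QuasiCompact j₀.left := inferInstance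
  haveI : LocallyOfFiniteType (Red.Ga (Spec (CommRingCat.of (IsLocalRing.ResidueField R)))).hom := by
    rw [← Over.w j₀]; infer_instance
  haveI : Mono j₀.left := inferInstance
  haveI : IsClosedImmersion j₀.left := GrpHom.isClosedImmersion_of_mono_artinian (u := j₀)
  obtain ⟨N, hN, c, hc⟩ := SemiAbLib.exists_pow_component j₀
  exact ⟨N, hN, fun x => ⟨x ≫ c, by rw [Category.assoc, hc, MonObj.comp_pow, Category.comp_id]⟩⟩

theorem exists_component (G : Over (Spec (CommRingCat.of R))) [GrpObj G] [Smooth G.hom] [IsSeparated G.hom]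
    (e : Red.bc ξK G ≅ Red.Gm (Spec (CommRingCat.of K))) [IsMonHom e.hom]
    (j₀ : Red.Ga (Spec (CommRingCat.of (IsLocalRing.ResidueField R))) ⟶ Red.bc sq G) [IsMonHom j₀]
    {n : ℕ} (hn : (n : IsLocalRing.ResidueField R) ≠ 0) :
    ∃ x₀ : 𝟙_ (Over (Spec (CommRingCat.of (IsLocalRing.ResidueField R)))) ⟶ Red.bc sq G,
      ∀ (x : 𝟙_ (Over (Spec (CommRingCat.of (IsLocalRing.ResidueField R)))) ⟶ Red.bc sq G) (a : _),
        x ^ n = a ≫ j₀ → ∃ m : ℕ,
          x.left (IsLocalRing.closedPoint (IsLocalRing.ResidueField R) : PrimeSpectrum _) ∈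
            connectedComponent ((x₀ ^ m).left (IsLocalRing.closedPoint (IsLocalRing.ResidueField R) : PrimeSpectrum _)) := by
  haveI := isCommMonObj_model G e
  haveI : IsCommMonObj (Red.bc sq G) := Functor.isCommMonObj_obj (F := Over.pullback sq)
  have hn0 : 0 < n := Nat.pos_of_ne_zero fun h => hn (by rw [h, Nat.cast_zero])
  have hnR : IsUnit (n : R) := by
    by_contra h
    exact hn (by rw [← map_natCast (IsLocalRing.residue R)]; exact (IsLocalRing.residue_eq_zero_iff _).2 h)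
  obtain ⟨x₀, hx₀⟩ := exists_generator G e hn0 hnR
  refine ⟨x₀, fun x a ha => ?_⟩
  obtain ⟨b, hb⟩ := exists_root hn a
  have hx' : (x * (b ≫ j₀)⁻¹) ^ n = 1 := by
    letI : CommGroup (𝟙_ (Over (Spec (CommRingCat.of (IsLocalRing.ResidueField R)))) ⟶ Red.bc sq G) := Hom.commGroup
    rw [mul_pow, inv_pow, ← MonObj.pow_comp, hb, ha, mul_inv_cancel]
  obtain ⟨m, hm⟩ := hx₀ _ hx'
  refine ⟨m, ?_⟩
  have e' : x = x₀ ^ m * (b ≫ j₀) := by rw [← hm, inv_mul_cancel_right]
  rw [e']
  exact mem_component j₀ (x₀ ^ m) b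

end GmComp

end
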